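import Cfsg.Agent.Lib.Coprime.Invariant
import Cfsg.Agent.Lib.PGroup.Basic
import Cfsg.Agent.Lib.Solvable.Basic
import Cfsg.Agent.Lib.TwoGroupRecog.Sectional

/-!
# 2-groups without noncyclic abelian subgroups of order 8 under an odd operator group

* `exists_eight`: building such a subgroup.
* `IsFour`, `IsQuat`: the two types, with `IsFour.invariant`, `IsQuat.invariant`, `IsQuat.inner`.
-/

set_option autoImplicit false
set_option linter.style.haveILetI false
set_option linter.unusedSectionVars false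

open scoped commutatorElement

namespace Cfsg.Agent.MinEight

variable {G : Type*} [Group G] [Finite G]

/-- No noncyclic abelian subgroup of order 8 inside. -/
def NoEight (P : Subgroup G) : Prop :=
  ¬ ∃ A : Subgroup G, A ≤ P ∧ IsMulCommutative ↥A ∧ ¬ IsCyclic ↥A ∧ Nat.card ↥A = 8

theorem NoEight.mono {P R : Subgroup G} (h : NoEight R) (hle : P ≤ R) : NoEight P :=
  fun ⟨A, hA, h'⟩ => h ⟨A, hA.trans hle, h'⟩

/-- Extending an abelian subgroup by a commuting element with square inside. -/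
theorem exists_double (E : Subgroup G) (hEc : ∀ a ∈ E, ∀ b ∈ E, a * b = b * a) {c : G} (hcE : c ∉ E)
    (hc : ∀ a ∈ E, c * a = a * c) (hc2 : c * c ∈ E) :
    ∃ A : Subgroup G, Nat.card A = 2 * Nat.card E ∧ E ≤ A ∧ c ∈ A ∧
      (∀ x ∈ A, ∀ y ∈ A, x * y = y * x) ∧ (∀ x ∈ A, x ∈ E ∨ ∃ e ∈ E, x = c * e) ∧
      ∀ R : Subgroup G, E ≤ R → c ∈ R → A ≤ R := by
  classical
  let A : Subgroup G :=
    { carrier := {x | x ∈ E ∨ ∃ e ∈ E, x = c * e}
      one_mem' := Or.inl E.one_mem
      mul_mem' := by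
        rintro x y (hx | ⟨e, he, rfl⟩) (hy | ⟨f, hf, rfl⟩)
        · exact Or.inl (E.mul_mem hx hy)
        · exact Or.inr ⟨x * f, E.mul_mem hx hf, by rw [← mul_assoc, ← mul_assoc, hc x hx]⟩
        · exact Or.inr ⟨e * y, E.mul_mem he hy, mul_assoc c e y⟩
        · refine Or.inl ?_
          rw [show c * e * (c * f) = c * (e * c) * f by group, ← hc e he,
            show c * (c * e) * f = c * c * e * f by group]
          exact E.mul_mem (E.mul_mem hc2 he) hf
      inv_mem' := by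
        rintro x (hx | ⟨e, he, rfl⟩)
        · exact Or.inl (E.inv_mem hx)
        · refine Or.inr ⟨(c * c)⁻¹ * e⁻¹, E.mul_mem (E.inv_mem hc2) (E.inv_mem he), ?_⟩
          rw [show (c * e)⁻¹ = (e * c)⁻¹ by rw [hc e he]]
          group }
  have hAR : ∀ R : Subgroup G, E ≤ R → c ∈ R → A ≤ R := by
    rintro R hER hcR x (hx | ⟨e, he, rfl⟩)
    · exact hER hx
    · exact R.mul_mem hcR (hER he)
  have hcard8 : Nat.card A = 2 * Nat.card E := by
    have h1 : (A : Set G) = (E : Set G) ∪ (fun e => c * e) '' (E : Set G) := by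
      ext x; exact ⟨fun h => h.elim Or.inl fun ⟨e, he, hx⟩ => Or.inr ⟨e, he, hx.symm⟩,
        fun h => h.elim Or.inl fun ⟨e, he, hx⟩ => Or.inr ⟨e, he, hx.symm⟩⟩
    have hd : Disjoint (E : Set G) ((fun e => c * e) '' (E : Set G)) := by
      rw [Set.disjoint_left]
      rintro x hx ⟨e, he, rfl⟩
      exact hcE (by simpa using E.mul_mem hx (E.inv_mem he))
    rw [show Nat.card A = (A : Set G).ncard from Nat.card_coe_set_eq _, h1,
      Set.ncard_union_eq hd (Set.toFinite _) (Set.toFinite _),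
      Set.ncard_image_of_injective _ (mul_right_injective c), ← Nat.card_coe_set_eq]
    show Nat.card E + Nat.card E = 2 * Nat.card E
    omega
  have hcomm : ∀ x ∈ A, ∀ y ∈ A, x * y = y * x := by
    rintro x (hx | ⟨e, he, rfl⟩) y (hy | ⟨f, hf, rfl⟩)
    · exact hEc x hx y hy
    · rw [← mul_assoc, ← hc x hx, mul_assoc, mul_assoc, hEc x hx f hf]
    · rw [mul_assoc, hEc e he y hy, ← mul_assoc, hc y hy, mul_assoc]
    · calc c * e * (c * f) = c * (e * c) * f := by group
        _ = c * (c * e) * f := by rw [hc e he]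
        _ = c * c * (e * f) := by group
        _ = c * c * (f * e) := by rw [hEc e he f hf]
        _ = c * (c * f) * e := by group
        _ = c * (f * c) * e := by rw [hc f hf]
        _ = c * f * (c * e) := by group
  exact ⟨A, hcard8, fun x hx => Or.inl hx, Or.inr ⟨1, E.one_mem, (mul_one c).symm⟩, hcomm,
    fun x hx => hx, hAR⟩

/-- An abelian subgroup of order 4 and a commuting element outside it. -/
theorem exists_eight (E : Subgroup G) (hcard : Nat.card E = 4)
    (hEc : ∀ a ∈ E, ∀ b ∈ E, a * b = b * a) (hE4 : ∀ a ∈ E, a ^ 4 = 1) {c : G} (hcE : c ∉ E)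
    (hc : ∀ a ∈ E, c * a = a * c) (hc2 : c * c ∈ E) (hc4 : c ^ 4 = 1) :
    ∃ A : Subgroup G, IsMulCommutative ↥A ∧ ¬ IsCyclic ↥A ∧ Nat.card ↥A = 8 ∧ E ≤ A ∧ c ∈ A ∧
      ∀ R : Subgroup G, E ≤ R → c ∈ R → A ≤ R := by
  obtain ⟨A, hA, hEA, hcA, hcomm, hmem, hAR⟩ := exists_double E hEc hcE hc hc2
  rw [hcard] at hA
  have hfour : ∀ x ∈ A, x ^ 4 = 1 := by
    intro x hx
    rcases hmem x hx with hx | ⟨e, he, rfl⟩
    · exact hE4 x hx
    · rw [(show Commute c e from hc e he).mul_pow, hc4, hE4 e he, mul_one]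
  refine ⟨A, ⟨⟨fun a b => Subtype.ext (hcomm a a.2 b b.2)⟩⟩, fun hcyc => ?_, hA, hEA, hcA, hAR⟩
  obtain ⟨g, hg⟩ := IsCyclic.exists_ofOrder_eq_natCard (α := A)
  have : orderOf g ∣ 4 := orderOf_dvd_of_pow_eq_one (Subtype.ext (by simpa using hfour g g.2))
  rw [hg, hA] at this
  norm_num at this

/-- Contradiction from an abelian subgroup of order 4 and a commuting element outside it. -/
theorem NoEight.false_of_pair {P E : Subgroup G} (hP : NoEight P) (hEP : E ≤ P)
    (hcard : Nat.card E = 4) (hEc : ∀ a ∈ E, ∀ b ∈ E, a * b = b * a) (hE4 : ∀ a ∈ E, a ^ 4 = 1)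
    {c : G} (hcP : c ∈ P) (hcE : c ∉ E) (hc : ∀ a ∈ E, c * a = a * c) (hc2 : c * c ∈ E)
    (hc4 : c ^ 4 = 1) : False := by
  obtain ⟨A, h1, h2, h3, -, -, h4⟩ := exists_eight E hcard hEc hE4 hcE hc hc2 hc4
  exact hP ⟨A, h4 P hEP hcP, h1, h2, h3⟩

theorem isPGroup_coprime {P H : Subgroup G} (hP : IsPGroup 2 P) (hodd : Odd (Nat.card H)) :
    (Nat.card H).Coprime (Nat.card P) := by
  haveI : Fact (Nat.Prime 2) := ⟨Nat.prime_two⟩
  obtain ⟨k, hk⟩ := IsPGroup.iff_card.mp hP
  rw [hk]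
  exact (Nat.coprime_two_right.mpr hodd).pow_right k

/-- In a 2-group, an element outside a subgroup with square inside. -/
theorem exists_not_mem_sq_mem {R E : Subgroup G} (hR : IsPGroup 2 R) (h : ¬ R ≤ E) :
    ∃ c ∈ R, c ∉ E ∧ c * c ∈ E := by
  obtain ⟨x, hxR, hxE⟩ := SetLike.not_le_iff_exists.mp h
  have hex : ∃ m : ℕ, x ^ 2 ^ m ∈ E := by
    obtain ⟨m, hm⟩ := hR ⟨x, hxR⟩
    exact ⟨m, by rw [show x ^ 2 ^ m = 1 from congrArg Subtype.val hm]; exact E.one_mem⟩
  classical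
  have hm := Nat.find_spec hex
  rcases hz : Nat.find hex with _ | m
  · rw [hz, pow_zero, pow_one] at hm
    exact absurd hm hxE
  · refine ⟨x ^ 2 ^ m, R.pow_mem hxR _, Nat.find_min hex (by omega), ?_⟩
    rw [hz, pow_succ, pow_mul, pow_two] at hm
    exact hm

theorem le_normalizer_commutator {A B H : Subgroup G} (hA : H ≤ Subgroup.normalizer (A : Set G))
    (hB : H ≤ Subgroup.normalizer (B : Set G)) :
    H ≤ Subgroup.normalizer ((⁅A, B⁆ : Subgroup G) : Set G) := by
  rw [Subgroup.le_normalizer_iff]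
  intro h hh k hk
  have hle : (⁅A, B⁆).map (MulAut.conj h).toMonoidHom ≤ ⁅A, B⁆ := by
    rw [Subgroup.map_commutator]
    refine Subgroup.commutator_mono ?_ ?_ <;> rintro _ ⟨a, ha, rfl⟩
    · exact Subgroup.le_normalizer_iff.mp hA h hh a ha
    · exact Subgroup.le_normalizer_iff.mp hB h hh a ha
  exact hle ⟨k, hk, rfl⟩

/-- The conjugation homomorphism of a subgroup by a normalising element. -/
def conjHom {P : Subgroup G} {g : G} (hg : g ∈ Subgroup.normalizer (P : Set G)) : P →* P where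
  toFun x := ⟨g * x * g⁻¹, (Subgroup.mem_normalizer_iff.mp hg x).mp x.2⟩
  map_one' := Subtype.ext (by simp)
  map_mul' x y := Subtype.ext (by simp [mul_assoc])

theorem conjHom_surjective {P : Subgroup G} {g : G}
    (hg : g ∈ Subgroup.normalizer (P : Set G)) : Function.Surjective (conjHom hg) := by
  refine Finite.injective_iff_surjective.mp fun x y h => ?_
  have h1 := congrArg Subtype.val h
  exact Subtype.ext (mul_left_cancel (mul_right_cancel h1))

/-- A homomorphism invariant under the operators is trivial on `P = [P, H]`. -/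
theorem eq_one_of_invariant {P H : Subgroup G} (hH : H ≤ Subgroup.normalizer (P : Set G))
    (hPH : ⁅P, H⁆ = P) {T : Type*} [CommGroup T] (φ : P →* T)
    (hinv : ∀ h (hh : h ∈ H) (x : P), φ (conjHom (hH hh) x) = φ x) (x : P) : φ x = 1 := by
  have hle : ⁅P, H⁆ ≤ φ.ker.map P.subtype := by
    rw [Subgroup.commutator_le]
    intro a ha h hh
    refine ⟨⟨a, ha⟩ * conjHom (hH hh) (⟨a, ha⟩⁻¹), ?_, ?_⟩
    · show φ _ = 1
      rw [map_mul, hinv h hh, map_inv, mul_inv_cancel]
    · simp [conjHom, commutatorElement_def, mul_assoc]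
  rw [hPH] at hle
  obtain ⟨y, hy, hyx⟩ := hle x.2
  rw [show x = y from (Subtype.ext hyx).symm]
  exact hy

theorem comm_mem_of_relIndex_two {P H D : Subgroup G} (hH : H ≤ Subgroup.normalizer (P : Set G))
    (hDH : H ≤ Subgroup.normalizer (D : Set G)) (h2 : D.relIndex P = 2) :
    ∀ x ∈ P, ∀ h ∈ H, x * (h * x⁻¹ * h⁻¹) ∈ D := by
  intro x hx h hh
  have hxh : h * x⁻¹ * h⁻¹ ∈ P := Subgroup.le_normalizer_iff.mp hH h hh _ (P.inv_mem hx)
  by_cases hxD : x ∈ D
  · exact D.mul_mem hxD (Subgroup.le_normalizer_iff.mp hDH h hh _ (D.inv_mem hxD))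
  · have := (Subgroup.mul_mem_iff_of_index_two (H := D.subgroupOf P) h2 (a := ⟨x, hx⟩)
      (b := ⟨_, hxh⟩)).mpr ⟨fun h1 => absurd h1 hxD, fun h1 => ?_⟩
    · exact this
    · have h1' : h * x⁻¹ * h⁻¹ ∈ D := h1
      have := Subgroup.le_normalizer_iff.mp hDH h⁻¹ (H.inv_mem hh) _ h1'
      exact absurd (by simpa [mul_assoc] using D.inv_mem this) hxD

/-- `P = [P, H]` has no invariant subgroup of index 2. -/
theorem relIndex_ne_two {P H D : Subgroup G} (hH : H ≤ Subgroup.normalizer (P : Set G))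
    (hPH : ⁅P, H⁆ = P) (hDH : H ≤ Subgroup.normalizer (D : Set G)) : D.relIndex P ≠ 2 := by
  intro h2
  have hle : ⁅P, H⁆ ≤ D := by
    rw [Subgroup.commutator_le]
    intro x hx h hh
    have := comm_mem_of_relIndex_two hH hDH h2 x hx h hh
    simpa [commutatorElement_def, mul_assoc] using this
  rw [hPH] at hle
  rw [Subgroup.relIndex_eq_one.mpr hle] at h2
  norm_num at h2

/-- A four group. -/
structure IsFour (P : Subgroup G) : Prop where
  card_eq : Nat.card P = 4
  sq : ∀ x ∈ P, x * x = 1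

/-- A quaternion group of order 8 with involution `z`. -/
structure IsQuat (P : Subgroup G) (z : G) : Prop where
  card_eq : Nat.card P = 8
  noncomm : ∃ a ∈ P, ∃ b ∈ P, a * b ≠ b * a
  z_mem : z ∈ P
  z_sq : z * z = 1
  z_ne : z ≠ 1
  sq : ∀ x ∈ P, x ≠ 1 → x ≠ z → x * x = z

variable {P H : Subgroup G} {z : G}

theorem IsFour.comm (hP : IsFour P) : ∀ a ∈ P, ∀ b ∈ P, a * b = b * a := fun a ha b hb => by
  have h1 := hP.sq _ (P.mul_mem ha hb)
  have ha' := mul_eq_one_iff_eq_inv.mp (hP.sq a ha)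
  have hb' := mul_eq_one_iff_eq_inv.mp (hP.sq b hb)
  rw [mul_eq_one_iff_eq_inv.mp h1, mul_inv_rev, ← ha', ← hb']

theorem IsFour.pow_four (hP : IsFour P) : ∀ a ∈ P, a ^ 4 = 1 := fun a ha => by
  rw [show 4 = 2 * 2 from rfl, pow_mul, pow_two a, hP.sq a ha, one_pow]

theorem IsQuat.eq_of_sq (hP : IsQuat P z) {x : G} (hx : x ∈ P) (h : x * x = 1) : x = 1 ∨ x = z := by
  by_contra hne
  push Not at hne
  exact hP.z_ne ((hP.sq x hx hne.1 hne.2).symm.trans h)

theorem IsQuat.conj_z (hP : IsQuat P z) {g : G} (hg : g ∈ Subgroup.normalizer (P : Set G)) :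
    g * z * g⁻¹ = z := by
  rcases hP.eq_of_sq ((Subgroup.mem_normalizer_iff.mp hg z).mp hP.z_mem)
    (by rw [show g * z * g⁻¹ * (g * z * g⁻¹) = g * (z * z) * g⁻¹ by group, hP.z_sq]; group) with h | h
  · exact absurd (by simpa using h) hP.z_ne
  · exact h

theorem IsQuat.z_comm (hP : IsQuat P z) {g : G} (hg : g ∈ Subgroup.normalizer (P : Set G)) :
    g * z = z * g := mul_inv_eq_iff_eq_mul.mp (hP.conj_z hg)

theorem IsQuat.pow_four (hP : IsQuat P z) : ∀ a ∈ P, a ^ 4 = 1 := fun a ha => by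
  by_cases h1 : a = 1
  · rw [h1, one_pow]
  by_cases h2 : a = z
  · rw [h2, show 4 = 2 * 2 from rfl, pow_mul, pow_two z, hP.z_sq, one_pow]
  · rw [show 4 = 2 * 2 from rfl, pow_mul, pow_two, pow_two, hP.sq a ha h1 h2, hP.z_sq]

/-- The subgroup of order 4 on an element outside the centre. -/
theorem IsQuat.card_zpowers (hP : IsQuat P z) {i : G} (hi : i ∈ P) (h1 : i ≠ 1) (h2 : i ≠ z) :
    Nat.card (Subgroup.zpowers i) = 4 := by
  haveI : Fact (Nat.Prime 2) := ⟨Nat.prime_two⟩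
  rw [Nat.card_zpowers, show 4 = 2 ^ (1 + 1) from rfl]
  refine orderOf_eq_prime_pow ?_ ?_
  · rw [pow_one, pow_two, hP.sq i hi h1 h2]; exact hP.z_ne
  · exact hP.pow_four i hi

theorem IsQuat.anticomm (hP : IsQuat P z) {i u : G} (hi : i ∈ P) (h1 : i ≠ 1) (h2 : i ≠ z)
    (hu : u ∈ P) (hui : u ∉ Subgroup.zpowers i) : u * i * u⁻¹ = i * z := by
  have hu1 : u ≠ 1 := fun h => hui (h ▸ Subgroup.one_mem _)
  have hii := hP.sq i hi h1 h2
  have huz : u ≠ z := fun h => hui (by
    rw [h, ← hii]; exact Subgroup.mul_mem _ (Subgroup.mem_zpowers i) (Subgroup.mem_zpowers i))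
  have hp1 : u * i ≠ 1 := fun h => hui (by
    rw [mul_eq_one_iff_eq_inv.mp h]; exact Subgroup.inv_mem _ (Subgroup.mem_zpowers i))
  have hp2 : u * i ≠ z := fun h => hui (by
    rw [show u = i * i * i⁻¹ by rw [hii, ← h, mul_inv_cancel_right]]
    simp)
  have huu := hP.sq u hu hu1 huz
  have h3 := hP.sq _ (P.mul_mem hu hi) hp1 hp2
  have h4 : i * u * i = u := by
    refine mul_left_cancel (a := u) ?_
    rw [huu, ← h3]; group
  have hzi : z * i = i * z := (hP.z_comm (Subgroup.le_normalizer hi)).symm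
  calc u * i * u⁻¹ = i * u * i * i * u⁻¹ := by rw [h4]
    _ = i * (u * z) * u⁻¹ := by rw [← hii]; group
    _ = i * (z * u) * u⁻¹ := by rw [hP.z_comm (Subgroup.le_normalizer hu)]
    _ = i * z := by group

/-- An automorphism trivial on the central quotient is inner. -/
theorem IsQuat.inner (hP : IsQuat P z) {i u : G} (hi : i ∈ P) (h1 : i ≠ 1) (h2 : i ≠ z)
    (hu : u ∈ P) (hui : u ∉ Subgroup.zpowers i) {a : G} (ha : a ∈ Subgroup.normalizer (P : Set G))
    (hai : a * i * a⁻¹ = i ∨ a * i * a⁻¹ = i * z) (hau : a * u * a⁻¹ = u ∨ a * u * a⁻¹ = u * z) :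
    ∃ q ∈ P, ∀ x ∈ P, q⁻¹ * a * x = x * (q⁻¹ * a) := by
  have hu1 : u ≠ 1 := fun h => hui (h ▸ Subgroup.one_mem _)
  have huz : u ≠ z := fun h => hui (by
    rw [h, ← hP.sq i hi h1 h2]
    exact Subgroup.mul_mem _ (Subgroup.mem_zpowers i) (Subgroup.mem_zpowers i))
  have hiu : i ∉ Subgroup.zpowers u := by
    intro h
    have hle : Subgroup.zpowers i ≤ Subgroup.zpowers u := Subgroup.zpowers_le.mpr h
    exact hui ((PGroup.eq_of_le_of_card_le hle
      (by rw [hP.card_zpowers hi h1 h2, hP.card_zpowers hu hu1 huz])) ▸ Subgroup.mem_zpowers u)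
  have e1 := hP.anticomm hi h1 h2 hu hui
  have e2 := hP.anticomm hu hu1 huz hi hiu
  -- agreement on the two generators
  have key : ∀ q ∈ P, q * i * q⁻¹ = a * i * a⁻¹ → q * u * q⁻¹ = a * u * a⁻¹ →
      ∃ q ∈ P, ∀ x ∈ P, q⁻¹ * a * x = x * (q⁻¹ * a) := by
    intro q hq hqi hqu
    refine ⟨q, hq, fun x hx => ?_⟩
    let C := P ⊓ Subgroup.centralizer ({q⁻¹ * a} : Set G)
    have hcm : ∀ y ∈ P, q * y * q⁻¹ = a * y * a⁻¹ → y ∈ C := fun y hy he => by
      refine ⟨hy, Subgroup.mem_centralizer_singleton_iff.mpr ?_⟩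
      calc y * (q⁻¹ * a) = q⁻¹ * (q * y * q⁻¹) * a := by group
        _ = q⁻¹ * (a * y * a⁻¹) * a := by rw [he]
        _ = q⁻¹ * a * y := by group
    have hlt : Subgroup.zpowers i < C := lt_of_le_of_ne
      (Subgroup.zpowers_le.mpr (hcm i hi hqi)) fun he => hui (he ▸ hcm u hu hqu)
    have h8 : Nat.card P ≤ Nat.card C := by
      have hdvd : Nat.card C ∣ 2 ^ 3 := by
        have := Subgroup.card_dvd_of_le (inf_le_left : C ≤ P)
        rwa [hP.card_eq] at this
      obtain ⟨k, hk, hk'⟩ := (Nat.dvd_prime_pow Nat.prime_two).mp hdvd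
      have h4 : 4 < Nat.card C := by
        rw [← hP.card_zpowers hi h1 h2]
        exact (Set.ncard_lt_ncard (SetLike.coe_ssubset_coe.mpr hlt) (Set.toFinite _))
      rw [hP.card_eq, hk'] at *
      interval_cases k <;> omega
    have hCP : C = P := PGroup.eq_of_le_of_card_le inf_le_left h8
    exact (Subgroup.mem_centralizer_singleton_iff.mp (hCP.ge hx).2).symm
  have hzi := hP.z_comm (Subgroup.le_normalizer hi)
  have hzu := hP.z_comm (Subgroup.le_normalizer hu)
  rcases hai with hai | hai <;> rcases hau with hau | hau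
  · exact key 1 P.one_mem (by rw [hai]; group) (by rw [hau]; group)
  · exact key i hi (by rw [hai]; group) (by rw [hau, e2])
  · exact key u hu (by rw [hai, e1]) (by rw [hau]; group)
  · refine key (i * u) (P.mul_mem hi hu) ?_ ?_
    · rw [hai, show i * u * i * (i * u)⁻¹ = i * (u * i * u⁻¹) * i⁻¹ by group, e1,
        show i * (i * z) * i⁻¹ = i * (i * z * i⁻¹) by group, hzi, mul_inv_cancel_right, ← hzi]
    · rw [hau, show i * u * u * (i * u)⁻¹ = i * u * i⁻¹ by group, e2]

/-- Proper invariant subgroups of a four group `[P, H] = P` are trivial. -/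
theorem IsFour.invariant (hP : IsFour P) (hH : H ≤ Subgroup.normalizer (P : Set G))
    (hPH : ⁅P, H⁆ = P) {D : Subgroup G} (hD : D ≤ P) (hne : D ≠ P)
    (hDH : H ≤ Subgroup.normalizer (D : Set G)) : D = ⊥ := by
  have hmul := Subgroup.relIndex_mul_relIndex ⊥ D P bot_le hD
  rw [Subgroup.relIndex_bot_left, Subgroup.relIndex_bot_left, hP.card_eq] at hmul
  have h1 : D.relIndex P ≠ 1 := fun h => hne (le_antisymm hD (Subgroup.relIndex_eq_one.mp h))
  have h2 := relIndex_ne_two hH hPH hDH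
  refine Subgroup.card_eq_one.mp ?_
  have hle : D.relIndex P ≤ 4 := Nat.le_of_dvd (by norm_num) (Dvd.intro_left _ hmul)
  interval_cases hr : D.relIndex P <;> omega

/-- Proper invariant subgroups of a quaternion group `[P, H] = P` lie in the centre. -/
theorem IsQuat.invariant (hP : IsQuat P z) (hH : H ≤ Subgroup.normalizer (P : Set G))
    (hPH : ⁅P, H⁆ = P) {D : Subgroup G} (hD : D ≤ P) (hne : D ≠ P)
    (hDH : H ≤ Subgroup.normalizer (D : Set G)) {x : G} (hx : x ∈ D) : x = 1 ∨ x = z := by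
  have hmul := Subgroup.relIndex_mul_relIndex ⊥ D P bot_le hD
  rw [Subgroup.relIndex_bot_left, Subgroup.relIndex_bot_left, hP.card_eq] at hmul
  have h1 : D.relIndex P ≠ 1 := fun h => hne (le_antisymm hD (Subgroup.relIndex_eq_one.mp h))
  have h2 := relIndex_ne_two hH hPH hDH
  have hd2 : Nat.card D ∣ 2 := by
    have hle : D.relIndex P ≤ 8 := Nat.le_of_dvd (by norm_num) (Dvd.intro_left _ hmul)
    obtain ⟨k, hk, hk'⟩ := (Nat.dvd_prime_pow Nat.prime_two).mp
      (show D.relIndex P ∣ 2 ^ 3 from Dvd.intro_left _ hmul)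
    rw [hk'] at hmul h1 h2
    interval_cases k
    · norm_num at h1
    · norm_num at h2
    · exact ⟨1, by omega⟩
    · exact ⟨2, by omega⟩
  refine hP.eq_of_sq (hD hx) ?_
  rw [← pow_two]
  exact orderOf_dvd_iff_pow_eq_one.mp ((Subgroup.orderOf_dvd_natCard D hx).trans hd2)

end Cfsg.Agent.MinEight
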