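import Cfsg.Agent.Lib.MinEight.Basic
import Cfsg.Agent.Lib.DegTwoP.Perm
import Cfsg.Agent.Lib.PGroup.Extraspecial
import Cfsg.Agent.Lib.TwoGroupRecog.Sectional

/-!
# The structure of a minimal 2-group `P = [P, H]`

* `structure_of_commutator_eq`: abelian, extraspecial, or special with centre of order 4.
* `four_or_quat`: without noncyclic abelian subgroups of order 8 only two types.
-/

set_option autoImplicit false
set_option linter.style.haveILetI false
set_option linter.unusedSectionVars false

open scoped commutatorElement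

namespace Cfsg.Agent.MinEight

variable {G : Type*} [Group G] [Finite G] {P H : Subgroup G} {z : G}

/-- Proper operator-invariant subgroups have no noncyclic abelian subgroup of order 8. -/
def SubNoEight (P H : Subgroup G) : Prop :=
  ∀ Y : Subgroup G, Y ≤ P → Y ≠ P → H ≤ Subgroup.normalizer (Y : Set G) → NoEight Y

/-- The image of the Frattini subgroup. -/
noncomputable def phi (P : Subgroup G) : Subgroup G := (frattini P).map P.subtype

theorem phi_le (P : Subgroup G) : phi P ≤ P := Subgroup.map_subtype_le _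

theorem mem_phi {x : P} : (x : G) ∈ phi P ↔ x ∈ frattini P := by
  constructor
  · rintro ⟨y, hy, hyx⟩
    rwa [← show y = x from Subtype.ext hyx]
  · exact fun h => ⟨x, h, rfl⟩

theorem le_normalizer_phi (hP : IsPGroup 2 P) (hH : H ≤ Subgroup.normalizer (P : Set G)) :
    H ≤ Subgroup.normalizer (phi P : Set G) := by
  haveI : Fact (Nat.Prime 2) := ⟨Nat.prime_two⟩
  rw [Subgroup.le_normalizer_iff]
  intro h hh k hk
  obtain ⟨x, hx, rfl⟩ := hk
  exact mem_phi (x := conjHom (hH hh) x).mpr
    (PGroup.frattini_map hP (conjHom_surjective (hH hh)) ▸ Subgroup.mem_map_of_mem _ hx)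

theorem self_le_normalizer_phi (hP : IsPGroup 2 P) : P ≤ Subgroup.normalizer (phi P : Set G) :=
  le_normalizer_phi hP Subgroup.le_normalizer

theorem phi_ne (hne : P ≠ ⊥) : phi P ≠ P := by
  intro h
  have h1 : frattini P = ⊤ := eq_top_iff.mpr fun x _ => mem_phi.mp (h.symm ▸ x.2)
  have h2 := PGroup.eq_top_of_sup_frattini (K := (⊥ : Subgroup P)) (by rw [bot_sup_eq, h1])
  exact hne ((Subgroup.subgroupOf_eq_bot.trans disjoint_self).mp (by
    rw [Subgroup.subgroupOf_self, ← h2]))

theorem phi_noEight (hP : IsPGroup 2 P) (hne : P ≠ ⊥) (hH : H ≤ Subgroup.normalizer (P : Set G))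
    (hY : SubNoEight P H) : NoEight (phi P) :=
  hY _ (phi_le P) (phi_ne hne) (le_normalizer_phi hP hH)

/-- Elements moved inside `Φ(P)` by all operators lie in `Φ(P)`. -/
theorem mem_phi_of_fixed (hP : IsPGroup 2 P) (hodd : Odd (Nat.card H))
    (hH : H ≤ Subgroup.normalizer (P : Set G)) (hPH : ⁅P, H⁆ = P) {x : P}
    (hx : ∀ h (hh : h ∈ H), (conjHom (hH hh) x)⁻¹ * x ∈ frattini P) : x ∈ frattini P := by
  classical
  haveI : Fact (Nat.Prime 2) := ⟨Nat.prime_two⟩
  haveI hn : (frattini P).Normal := inferInstance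
  letI : CommGroup (P ⧸ frattini P) :=
    { (inferInstance : Group (P ⧸ frattini P)) with
      mul_comm := fun a b => by
        induction a using QuotientGroup.induction_on with
        | _ a =>
        induction b using QuotientGroup.induction_on with
        | _ b =>
        rw [← commutatorElement_eq_one_iff_mul_comm]
        exact (QuotientGroup.eq_one_iff _).mpr (PGroup.commutatorElement_mem_frattini hP a b) }
  haveI := Fintype.ofFinite H
  let N : P →* P ⧸ frattini P :=
    ∏ h : H, (QuotientGroup.mk' (frattini P)).comp (conjHom (hH h.2))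
  have hN : ∀ y, N y = ∏ h : H, (QuotientGroup.mk (conjHom (hH h.2) y) : P ⧸ frattini P) :=
    fun y => by simp [N, MonoidHom.finsetProd_apply]
  have hinv : ∀ h (hh : h ∈ H) (y : P), N (conjHom (hH hh) y) = N y := by
    intro h hh y
    rw [hN, hN]
    refine Fintype.prod_equiv (Equiv.mulRight (⟨h, hh⟩ : H)) _ _ fun a => ?_
    congr 1
    exact Subtype.ext (by simp [conjHom, mul_assoc])
  have h1 := eq_one_of_invariant hH hPH N hinv x
  rw [hN, Finset.prod_congr rfl fun (h : H) _ => show
      (QuotientGroup.mk (conjHom (hH h.2) x) : P ⧸ frattini P) = QuotientGroup.mk x from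
      QuotientGroup.eq.mpr (hx h h.2), Finset.prod_const, Finset.card_univ, ← Nat.card_eq_fintype_card,
    ← QuotientGroup.mk_pow, QuotientGroup.eq_one_iff] at h1
  obtain ⟨m, hm⟩ := hodd
  rw [hm, pow_succ, pow_mul] at h1
  exact (Subgroup.mul_mem_cancel_left _ (pow_mem (PGroup.pow_mem_frattini hP x) m)).mp h1

/-- An abelian group without noncyclic abelian subgroups of order 8: cyclic or a four group. -/
theorem cyclic_or_four {F : Subgroup G} (hF : IsPGroup 2 F) (hFc : ∀ a ∈ F, ∀ b ∈ F, a * b = b * a)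
    (hF8 : NoEight F) : IsCyclic F ∨ IsFour F := by
  haveI : Fact (Nat.Prime 2) := ⟨Nat.prime_two⟩
  by_contra hcon
  push Not at hcon
  -- the involutions
  let W : Subgroup G :=
    { carrier := {x | x ∈ F ∧ x * x = 1}
      one_mem' := ⟨F.one_mem, one_mul 1⟩
      mul_mem' := fun {a b} ha hb => ⟨F.mul_mem ha.1 hb.1, by
        rw [show a * b * (a * b) = a * (b * a) * b by group, ← hFc a ha.1 b hb.1,
          show a * (a * b) * b = (a * a) * (b * b) by group, ha.2, hb.2, one_mul]⟩
      inv_mem' := fun {a} ha => ⟨F.inv_mem ha.1, by rw [← mul_inv_rev, ha.2, inv_one]⟩ }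
  have hWF : W ≤ F := fun x hx => hx.1
  have hWc : ∀ a ∈ W, ∀ b ∈ W, a * b = b * a := fun a ha b hb => hFc a ha.1 b hb.1
  have hW4 : ∀ a ∈ W, a ^ 4 = 1 := fun a ha => by
    rw [show 4 = 2 * 2 from rfl, pow_mul, pow_two a, ha.2, one_pow]
  obtain ⟨n, hn⟩ := IsPGroup.iff_card.mp (hF.to_le hWF)
  have hn2 : 2 ≤ n := by
    by_contra hlt
    refine hcon.1 (DegTwoP.isCyclic_of_involution_unique hF
      (fun a b => Subtype.ext (hFc a a.2 b b.2)) fun a b ha hb => ?_)
    have hmem : ∀ x : F, orderOf x = 2 → (x : G) ∈ W := fun x hx => ⟨x.2, by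
      have := pow_orderOf_eq_one x
      rw [hx, pow_two] at this
      exact congrArg Subtype.val this⟩
    by_contra hab
    have h3 : 3 ≤ Nat.card W := by
      rw [show Nat.card W = (W : Set G).ncard from Nat.card_coe_set_eq _]
      have hsub : ({1, (a : G), (b : G)} : Set G) ⊆ W := by
        rintro x (rfl | rfl | rfl)
        exacts [W.one_mem, hmem a ha, hmem b hb]
      refine le_trans (le_of_eq ?_) (Set.ncard_le_ncard hsub (Set.toFinite _))
      rw [Set.ncard_eq_three.mpr ⟨(1 : G), (a : G), (b : G), ?_, ?_, fun h => hab (Subtype.ext h), rfl⟩]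
      · exact fun h => by rw [show a = 1 from Subtype.ext h.symm, orderOf_one] at ha; omega
      · exact fun h => by rw [show b = 1 from Subtype.ext h.symm, orderOf_one] at hb; omega
    have : 2 ^ n ≤ 2 := by
      calc 2 ^ n ≤ 2 ^ 1 := Nat.pow_le_pow_right two_pos (by omega)
        _ = 2 := rfl
    omega
  obtain ⟨E₀, hE₀⟩ := Sylow.exists_subgroup_card_pow_prime (G := W) 2 (n := 2)
    (hn ▸ pow_dvd_pow 2 hn2)
  set E := E₀.map W.subtype with hE
  have hEW : E ≤ W := Subgroup.map_subtype_le _
  have hE4 : Nat.card E = 4 := by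
    rw [hE, Subgroup.card_subtype, hE₀]; rfl
  by_cases hFE : F ≤ E
  · have hEF : E = F := le_antisymm (hEW.trans hWF) hFE
    exact hcon.2 ⟨hEF ▸ hE4, fun x hx => (hEW (hFE hx)).2⟩
  obtain ⟨c, hcF, hcE, hc2⟩ := exists_not_mem_sq_mem hF hFE
  exact hF8.false_of_pair (hEW.trans hWF) hE4 (fun a ha b hb => hWc a (hEW ha) b (hEW hb))
    (fun a ha => hW4 a (hEW ha)) hcF hcE (fun a ha => hFc c hcF a (hWF (hEW ha))) hc2 (by
      rw [show 4 = 2 * 2 from rfl, pow_mul, pow_two, pow_two]; exact (hEW hc2).2)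

/-- Odd operators centralise a cyclic 2-group. -/
theorem commute_of_cyclic {C : Subgroup G} (hC : IsPGroup 2 C) [IsCyclic C]
    (hodd : Odd (Nat.card H)) (hH : H ≤ Subgroup.normalizer (C : Set G)) :
    ∀ h ∈ H, ∀ c ∈ C, h * c = c * h := by
  haveI : Fact (Nat.Prime 2) := ⟨Nat.prime_two⟩
  intro h hh c hc
  let f : H →* MulAut C := C.normalizerMonoidHom.comp (Subgroup.inclusion hH)
  obtain ⟨k, hk⟩ := IsPGroup.iff_card.mp hC
  have hcard : ∃ j, Nat.card (MulAut C) = 2 ^ j := by
    rw [IsCyclic.card_mulAut, hk]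
    rcases k.eq_zero_or_pos with rfl | hk0
    · exact ⟨0, by simp⟩
    · exact ⟨k - 1, by rw [Nat.totient_prime_pow Nat.prime_two hk0]; ring⟩
  obtain ⟨j, hj⟩ := hcard
  have h1 : f ⟨h, hh⟩ = 1 := by
    refine orderOf_eq_one_iff.mp (Nat.eq_one_of_dvd_coprimes
      ((Nat.coprime_two_right.mpr hodd).pow_right j)
      ((orderOf_map_dvd f _).trans (orderOf_dvd_natCard _)) ?_)
    rw [← hj]; exact orderOf_dvd_natCard _
  have h2 := congrArg (fun φ : MulAut C => ((φ ⟨c, hc⟩ : C) : G)) h1
  exact mul_inv_eq_iff_eq_mul.mp (by simpa [f] using h2)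

/-- A nonabelian group of order 8 without noncyclic abelian subgroups of order 8 and a four
subgroup is quaternion. -/
theorem quat_of_no_involution (h8 : Nat.card P = 8) (hna : ¬ ∀ a ∈ P, ∀ b ∈ P, a * b = b * a)
    {z : G} (hz : z ∈ P) (hz1 : z ≠ 1) (hz2 : z * z = 1) (huniq : ∀ x ∈ P, x * x = 1 → x = 1 ∨ x = z) :
    IsQuat P z := by
  have hnc : ¬ IsMulCommutative P := fun h => hna fun a ha b hb =>
    congrArg Subtype.val (h.is_comm.comm ⟨a, ha⟩ ⟨b, hb⟩)
  refine ⟨h8, by push Not at hna; exact hna, hz, hz2, hz1, fun x hx h1 h2 => ?_⟩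
  have hsq := (TwoGroupRecog.nonabelian_eight P h8 hnc).2 x hx
  have hx4 : x ^ 4 = 1 := by
    have hd : orderOf (⟨x, hx⟩ : P) ∣ 2 ^ 3 :=
      (orderOf_dvd_natCard (⟨x, hx⟩ : P)).trans (by rw [h8]; norm_num)
    obtain ⟨k, hk, hk'⟩ := (Nat.dvd_prime_pow Nat.prime_two).mp hd
    by_cases h3 : k = 3
    · subst h3
      haveI : IsCyclic P := isCyclic_of_orderOf_eq_card _ (by rw [hk', h8]; norm_num)
      exact absurd ⟨⟨fun a b => mul_comm' a b⟩⟩ hnc
    · refine orderOf_dvd_iff_pow_eq_one.mp ?_
      rw [← Subgroup.orderOf_mk x hx, hk']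
      exact (pow_dvd_pow 2 (show k ≤ 2 by omega)).trans (by norm_num)
  rcases huniq (x * x) (P.mul_mem hx hx) (by rw [← hx4]; simp [pow_succ, mul_assoc]) with h | h
  · exact ((huniq x hx h).elim h1 h2).elim
  · exact h

/-- A group `[P, H] = P` in which proper invariant subgroups have no noncyclic abelian subgroup
of order 8. -/
theorem structure_of_commutator_eq (hP : IsPGroup 2 P) (hodd : Odd (Nat.card H))
    (hH : H ≤ Subgroup.normalizer (P : Set G)) (hPH : ⁅P, H⁆ = P) (hY : SubNoEight P H)
    (h4Q : ∀ F : Subgroup G, F ≤ P → F ≠ P → H ≤ Subgroup.normalizer (F : Set G) → ⁅F, H⁆ ≠ ⊥ →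
      ⁅F, H⁆ = F ∧ (IsFour F ∨ ∃ z, IsQuat F z))
    (hna : ¬ ∀ a ∈ P, ∀ b ∈ P, a * b = b * a) :
    Cfsg.IsExtraspecial 2 P ∨
      (Cfsg.IsSpecial 2 P ∧ Nat.card (Subgroup.center P) = 4 ∧ IsFour (phi P)) := by
  classical
  haveI : Fact (Nat.Prime 2) := ⟨Nat.prime_two⟩
  have hne : P ≠ ⊥ := fun h => hna (by rw [h]; simp)
  have hFH := le_normalizer_phi (H := H) hP hH
  have hFP := self_le_normalizer_phi hP
  have hF2 : IsPGroup 2 (phi P) := hP.to_le (phi_le P)
  have hF8 := phi_noEight hP hne hH hY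
  have hFcomm : ⁅phi P, P⁆ ≤ phi P := Subgroup.le_normalizer_iff_commutator_le_left.mp hFP
  -- `Φ(P)` is central
  have hFZ : ∀ a ∈ phi P, ∀ p ∈ P, a * p = p * a := by
    suffices h : ⁅P, phi P⁆ = ⊥ from fun a ha p hp =>
      (commutatorElement_eq_one_iff_mul_comm.mp (Subgroup.mem_bot.mp
        (h ▸ Subgroup.commutator_mem_commutator hp ha))).symm
    by_cases hFfix : ⁅phi P, H⁆ = ⊥
    · have h1 : ⁅⁅H, phi P⁆, P⁆ = ⊥ := by
        rw [Subgroup.commutator_comm H, hFfix, Subgroup.commutator_bot_left]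
      have h2 : ⁅⁅phi P, P⁆, H⁆ = ⊥ := le_bot_iff.mp
        ((Subgroup.commutator_mono hFcomm le_rfl).trans hFfix.le)
      have h3 := Subgroup.commutator_commutator_eq_bot_of_rotate h1 h2
      rwa [hPH] at h3
    · obtain ⟨hFeq, hF⟩ := h4Q _ (phi_le P) (phi_ne hne) hFH hFfix
      haveI := hP.isNilpotent
      set D := ⁅phi P, P⁆ with hD
      have hDH : H ≤ Subgroup.normalizer (D : Set G) := le_normalizer_commutator hFH hH
      have hDne : D ≠ phi P := by
        intro h
        have h1 : frattini P ≠ ⊥ := fun h0 => hFfix (by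
          rw [show phi P = ⊥ by rw [phi, h0, Subgroup.map_bot], Subgroup.commutator_bot_left])
        haveI : (frattini P).Normal := inferInstance
        have hlt := PGroup.commutator_lt_of_ne_bot hP h1
        refine hlt.ne (Subgroup.map_injective P.subtype_injective ?_)
        rw [Subgroup.map_commutator, ← MonoidHom.range_eq_map, Subgroup.range_subtype]
        exact h
      rcases hF with hF | ⟨z, hF⟩
      · rw [Subgroup.commutator_comm]
        exact hF.invariant hFH hFeq hFcomm hDne hDH
      · -- impossible: inner automorphisms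
        exfalso
        obtain ⟨i, hi, u, hu, hiu⟩ := hF.noncomm
        have hi1 : i ≠ 1 := fun h => hiu (by rw [h, one_mul, mul_one])
        have hzc : ∀ g ∈ phi P, g * z = z * g := fun g hg => hF.z_comm (Subgroup.le_normalizer hg)
        have hiz : i ≠ z := fun h => hiu (by rw [h]; exact (hzc u hu).symm)
        have hui : u ∉ Subgroup.zpowers i := fun h => hiu (by
          obtain ⟨k, rfl⟩ := Subgroup.mem_zpowers_iff.mp h
          exact ((Commute.refl i).zpow_right k).eq)
        have hmove : ∀ p ∈ P, ∀ w ∈ phi P, p * w * p⁻¹ = w ∨ p * w * p⁻¹ = w * z := by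
          intro p hp w hw
          have hm : ⁅w⁻¹, p⁆ ∈ D := Subgroup.commutator_mem_commutator ((phi P).inv_mem hw) hp
          rcases hF.invariant hFH hFeq hFcomm hDne hDH hm with h | h
          · left
            rw [commutatorElement_def, inv_inv, mul_assoc, mul_assoc, inv_mul_eq_one] at h
            rw [mul_assoc]; exact h.symm
          · right
            rw [← h, commutatorElement_def, inv_inv]; group
        -- `P = Φ(P) C`
        have hsup : (frattini P) ⊔ ((P ⊓ Subgroup.centralizer (phi P : Set G)).subgroupOf P) = ⊤ := by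
          refine eq_top_iff.mpr fun p _ => ?_
          obtain ⟨q, hq, hqp⟩ := hF.inner hi hi1 hiz hu hui (hFP p.2) (hmove p p.2 i hi) (hmove p p.2 u hu)
          have hqP : q ∈ P := phi_le P hq
          rw [show p = ⟨q, hqP⟩ * (⟨q, hqP⟩⁻¹ * p) by group]
          refine Subgroup.mul_mem_sup (mem_phi.mp hq) ?_
          exact ⟨P.mul_mem (P.inv_mem hqP) p.2, Subgroup.mem_centralizer_iff.mpr fun w hw =>
            (hqp w hw).symm⟩
        have h1 := PGroup.eq_top_of_sup_frattini (sup_comm (frattini P) _ ▸ hsup)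
        have hiP : (⟨i, phi_le P hi⟩ : P) ∈ (P ⊓ Subgroup.centralizer (phi P : Set G)).subgroupOf P :=
          h1 ▸ Subgroup.mem_top _
        exact hiu (Subgroup.mem_centralizer_iff.mp hiP.2 u hu).symm
  -- the operators on the quotient
  have hFc : ∀ a ∈ phi P, ∀ b ∈ phi P, a * b = b * a := fun a ha b hb => hFZ a ha b (phi_le P hb)
  have hcomm_mem : ∀ x y : P, ⁅(x : G), (y : G)⁆ ∈ phi P := fun x y =>
    mem_phi (x := ⁅x, y⁆).mpr (PGroup.commutatorElement_mem_frattini hP x y)
  have hsq_mem : ∀ x : P, (x : G) * x ∈ phi P := fun x =>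
    mem_phi (x := x * x).mpr (pow_two x ▸ PGroup.pow_mem_frattini hP x)
  have hsq_mul : ∀ x y : P, (x : G) * y * (x * y) = x * x * (y * y) * ⁅(y : G)⁻¹, (x : G)⁻¹⁆ := by
    intro x y
    have h := hFZ _ (hcomm_mem y⁻¹ x⁻¹) y y.2
    push_cast at h
    calc (x : G) * y * (x * y) = x * x * (y * ⁅(y : G)⁻¹, (x : G)⁻¹⁆ * y) := by
          rw [commutatorElement_def]; group
      _ = x * x * (y * (⁅(y : G)⁻¹, (x : G)⁻¹⁆ * y)) := by rw [mul_assoc (y : G)]
      _ = x * x * (y * (y * ⁅(y : G)⁻¹, (x : G)⁻¹⁆)) := by rw [h]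
      _ = _ := by group
  have hcomm_sq : ∀ x y : P, ⁅(x : G), (y : G)⁆ * ⁅(x : G), (y : G)⁆ = 1 := by
    intro x y
    set c := ⁅(x : G), (y : G)⁆ with hc
    have hcx : (x : G) * c = c * x := (hFZ c (hcomm_mem x y) x x.2).symm
    have h1 : (x : G) * x * y = y * (x * x) := hFZ _ (hsq_mem x) y y.2
    have h2 : (x : G) * y = c * (y * x) := by rw [hc, commutatorElement_def]; group
    have h3 : c * c * (y * (x * x)) = 1 * (y * (x * x)) := by
      calc c * c * (y * (x * x)) = c * (c * (y * x)) * x := by group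
        _ = c * (x * y) * x := by rw [← h2]
        _ = (c * x) * y * x := by group
        _ = (x * c) * y * x := by rw [hcx]
        _ = x * (c * (y * x)) := by group
        _ = x * (x * y) := by rw [← h2]
        _ = 1 * (y * (x * x)) := by rw [one_mul, ← h1]; group
    exact mul_right_cancel h3
  -- a map to an invariant elementary quotient is trivial
  have hsq_in : ∀ K : Subgroup G, K ≤ phi P → (∀ x y : P, ⁅(x : G), (y : G)⁆ ∈ K) →
      (∀ h ∈ H, ∀ f ∈ phi P, h * f * h⁻¹ * f⁻¹ ∈ K) → ∀ x : P, (x : G) * x ∈ K := by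
    intro K hK hcK hfixK x
    haveI hKn : (K.subgroupOf (phi P)).Normal := ⟨fun a ha g => by
      rw [Subgroup.mem_subgroupOf] at ha ⊢
      push_cast
      rwa [hFc g g.2 a a.2, mul_inv_cancel_right]⟩
    letI : CommGroup (phi P ⧸ K.subgroupOf (phi P)) :=
      { (inferInstance : Group (phi P ⧸ K.subgroupOf (phi P))) with
        mul_comm := fun a b => by
          induction a using QuotientGroup.induction_on with
          | _ a =>
          induction b using QuotientGroup.induction_on with
          | _ b =>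
          rw [← QuotientGroup.mk_mul, ← QuotientGroup.mk_mul,
            show a * b = b * a from Subtype.ext (hFc a a.2 b b.2)] }
    let ψ : P →* phi P ⧸ K.subgroupOf (phi P) :=
      MonoidHom.mk' (fun y => QuotientGroup.mk (⟨_, hsq_mem y⟩ : phi P)) fun a b => by
        rw [← QuotientGroup.mk_mul, QuotientGroup.eq, Subgroup.mem_subgroupOf]
        push_cast
        have h := hsq_mul a b
        rw [h]
        rw [mul_inv_rev, mul_assoc, inv_mul_cancel, mul_one]
        exact K.inv_mem (hcK b⁻¹ a⁻¹)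
    have hinv : ∀ h (hh : h ∈ H) (y : P), ψ (conjHom (hH hh) y) = ψ y := by
      intro h hh y
      show QuotientGroup.mk _ = QuotientGroup.mk _
      rw [QuotientGroup.eq, Subgroup.mem_subgroupOf]
      push_cast
      have hk := hfixK h hh _ (hsq_mem y)
      have e : ((conjHom (hH hh) y : P) : G) * (conjHom (hH hh) y : P) = h * ((y : G) * y) * h⁻¹ := by
        simp [conjHom, mul_assoc]
      rw [e]
      have hf := Subgroup.le_normalizer_iff.mp hFH h hh _ (hsq_mem y)
      rw [hFc _ ((phi P).inv_mem hf) _ (hsq_mem y)]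
      simpa [mul_assoc] using K.inv_mem hk
    have := eq_one_of_invariant hH hPH ψ hinv x
    exact Subgroup.mem_subgroupOf.mp ((QuotientGroup.eq_one_iff _).mp this)
  have hgen : ∀ K : Subgroup G, (∀ x y : P, ⁅(x : G), (y : G)⁆ ∈ K) → (∀ x : P, (x : G) * x ∈ K) →
      phi P ≤ K := by
    intro K h1 h2
    rw [phi, Subgroup.map_le_iff_le_comap, PGroup.frattini_eq (p := 2) hP, sup_le_iff,
      commutator_def, Subgroup.commutator_le, Subgroup.closure_le]
    exact ⟨fun a _ b _ => h1 a b,
      by rintro _ ⟨a, rfl⟩; show ((a ^ 2 : P) : G) ∈ K; push_cast; rw [pow_two]; exact h2 a⟩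
  -- `Φ(P)` lies in the centre, which is small
  set Z := P ⊓ Subgroup.centralizer (P : Set G) with hZ
  have hFZ' : phi P ≤ Z := fun a ha => ⟨phi_le P ha, Subgroup.mem_centralizer_iff.mpr fun p hp =>
    (hFZ a ha p hp).symm⟩
  have hZne : Z ≠ P := fun h => hna fun a ha b hb => (Subgroup.mem_centralizer_iff.mp (h.ge ha).2 b hb).symm
  have hZH : H ≤ Subgroup.normalizer (Z : Set G) := by
    rw [Subgroup.le_normalizer_iff]
    intro h hh a ha
    have hPh := Subgroup.le_normalizer_iff.mp hH
    refine ⟨hPh h hh a ha.1, Subgroup.mem_centralizer_iff.mpr fun p hp => ?_⟩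
    have hp' : h⁻¹ * p * h ∈ P := by simpa using hPh h⁻¹ (H.inv_mem hh) p hp
    have := Subgroup.mem_centralizer_iff.mp ha.2 _ hp'
    calc p * (h * a * h⁻¹) = h * ((h⁻¹ * p * h) * a) * h⁻¹ := by group
      _ = h * (a * (h⁻¹ * p * h)) * h⁻¹ := by rw [this]
      _ = _ := by group
  have hZc : ∀ a ∈ Z, ∀ b ∈ Z, a * b = b * a := fun a ha b hb =>
    (Subgroup.mem_centralizer_iff.mp ha.2 b hb.1).symm
  have hZ2 : IsPGroup 2 Z := hP.to_le inf_le_left
  have hZ8 : NoEight Z := hY Z inf_le_left hZne hZH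
  have hcenter : Subgroup.center P = Z.subgroupOf P := by
    ext a
    rw [Subgroup.mem_center_iff, Subgroup.mem_subgroupOf]
    refine ⟨fun h => ⟨a.2, Subgroup.mem_centralizer_iff.mpr fun p hp =>
      congrArg Subtype.val (h ⟨p, hp⟩)⟩, fun h p => Subtype.ext ?_⟩
    exact Subgroup.mem_centralizer_iff.mp h.2 p p.2
  have hcard_center : Nat.card (Subgroup.center P) = Nat.card Z := by
    rw [hcenter]; exact Nat.card_congr (Subgroup.subgroupOfEquivOfLe inf_le_left).toEquiv
  have hspecial : phi P = Z → ∀ hgen' : (∀ K : Subgroup G, (∀ x y : P, ⁅(x : G), (y : G)⁆ ∈ K) →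
      phi P ≤ K), Cfsg.IsSpecial 2 P := by
    intro hFeq hgen'
    have h1 : frattini P = Subgroup.center P := by
      rw [hcenter, ← hFeq]
      ext a
      exact (mem_phi).symm
    refine ⟨hP, h1, le_antisymm ?_ ?_⟩
    · rw [← h1]; exact PGroup.commutator_le_frattini hP
    · intro a ha
      rw [← h1] at ha
      have := hgen' ((_root_.commutator P).map P.subtype) (fun x y =>
        ⟨⁅x, y⁆, Subgroup.commutator_mem_commutator (Subgroup.mem_top x) (Subgroup.mem_top y), rfl⟩)
        (mem_phi.mpr ha)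
      obtain ⟨b, hb, hba⟩ := this
      rwa [show a = b from (Subtype.ext hba).symm]
  have hnotriv : phi P ≠ ⊥ := fun h => hna fun a ha b hb => by
    have := hcomm_mem ⟨a, ha⟩ ⟨b, hb⟩
    rw [h, Subgroup.mem_bot] at this
    exact commutatorElement_eq_one_iff_mul_comm.mp this
  rcases cyclic_or_four hF2 hFc hF8 with hcyc | hfour
  · haveI := hcyc
    have hfix := commute_of_cyclic hF2 hodd hFH
    obtain ⟨g, hg⟩ := IsCyclic.exists_generator (α := phi P)
    obtain ⟨k, hk⟩ := IsPGroup.iff_card.mp hF2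
    have hgo : orderOf g = 2 ^ k := by rw [orderOf_eq_card_of_forall_mem_zpowers hg, hk]
    -- `Φ(P)` has order two
    have hk1 : k = 1 := by
      by_contra hk1
      have hk2 : 2 ≤ k := by
        rcases k with _ | _ | k
        · exact absurd (Subgroup.card_eq_one.mp (by rw [hk]; rfl)) hnotriv
        · exact absurd rfl hk1
        · omega
      set K := Subgroup.zpowers ((g : G) * g) with hK
      have hKle : K ≤ phi P := Subgroup.zpowers_le.mpr ((phi P).mul_mem g.2 g.2)
      have hcK : ∀ x y : P, ⁅(x : G), (y : G)⁆ ∈ K := by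
        intro x y
        obtain ⟨n, hn⟩ := Subgroup.mem_zpowers_iff.mp (hg ⟨_, hcomm_mem x y⟩)
        have hn' : (g : G) ^ n = ⁅(x : G), (y : G)⁆ := by simpa using congrArg Subtype.val hn
        have h1 : g ^ (n + n) = 1 := Subtype.ext (by
          push_cast
          rw [zpow_add, hn']; exact hcomm_sq x y)
        rw [← orderOf_dvd_iff_zpow_eq_one, hgo] at h1
        have h4 : (4 : ℤ) ∣ n + n := (show (4 : ℤ) ∣ ((2 ^ k : ℕ) : ℤ) by
          exact_mod_cast (pow_dvd_pow 2 hk2 : 2 ^ 2 ∣ 2 ^ k)).trans h1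
        refine Subgroup.mem_zpowers_iff.mpr ⟨n / 2, ?_⟩
        rw [← hn', ← pow_two, ← zpow_natCast, ← zpow_mul]
        congr 1
        omega
      have hfixK : ∀ h ∈ H, ∀ f ∈ phi P, h * f * h⁻¹ * f⁻¹ ∈ K := fun h hh f hf => by
        rw [hfix h hh f hf, mul_inv_cancel_right, mul_inv_cancel]; exact K.one_mem
      have hle := hgen K hcK (hsq_in K hKle hcK hfixK)
      obtain ⟨n, hn⟩ := Subgroup.mem_zpowers_iff.mp (hle g.2)
      have hn' : g ^ (2 * n - 1) = 1 := Subtype.ext (by
        push_cast
        rw [zpow_sub_one, zpow_mul, zpow_two, hn, mul_inv_cancel])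
      rw [← orderOf_dvd_iff_zpow_eq_one, hgo] at hn'
      have h2 : (2 : ℤ) ∣ 2 * n - 1 := (show (2 : ℤ) ∣ ((2 ^ k : ℕ) : ℤ) by
        exact_mod_cast dvd_pow_self 2 (show k ≠ 0 by omega)).trans hn'
      omega
    rw [hk1, pow_one] at hk
    -- the centre is `Φ(P)`
    have hFeq : phi P = Z := by
      refine le_antisymm hFZ' fun a ha => ?_
      by_contra haF
      have hstep : ¬ ∀ h ∈ H, h * a * h⁻¹ * a⁻¹ ∈ phi P := fun hall => haF <| by
        refine mem_phi (x := ⟨a, ha.1⟩).mpr (mem_phi_of_fixed hP hodd hH hPH fun h hh => ?_)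
        rw [← mem_phi]
        have := (phi P).inv_mem (hall h hh)
        have hc : ((conjHom (hH hh) ⟨a, ha.1⟩ : P) : G) = h * a * h⁻¹ := rfl
        push_cast
        rw [hc, hZc _ (Z.inv_mem (Subgroup.le_normalizer_iff.mp hZH h hh a ha)) a ha]
        simpa using this
      by_cases hZfix : ⁅Z, H⁆ = ⊥
      · refine hstep fun h hh => ?_
        have h1 := Subgroup.mem_bot.mp (hZfix ▸ Subgroup.commutator_mem_commutator ha hh)
        rw [commutatorElement_eq_one_iff_mul_comm] at h1
        rw [← h1, mul_inv_cancel_right, mul_inv_cancel]; exact (phi P).one_mem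
      · obtain ⟨hZeq, hT⟩ := h4Q Z inf_le_left hZne hZH hZfix
        rcases hT with hT | ⟨z, hT⟩
        · have := hT.invariant hZH hZeq hFZ' (fun h => haF (h ▸ ha)) hFH
          exact hnotriv this
        · obtain ⟨u, hu, v, hv, huv⟩ := hT.noncomm
          exact huv (hZc u hu v hv)
    left
    refine ⟨hspecial hFeq fun K h1 => ?_, by rw [hcard_center, ← hFeq, hk]⟩
    obtain ⟨x, hx, y, hy, hxy⟩ : ∃ a ∈ P, ∃ b ∈ P, a * b ≠ b * a := by push Not at hna; exact hna
    have hc : ⁅x, y⁆ ≠ 1 := fun h => hxy (commutatorElement_eq_one_iff_mul_comm.mp h)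
    have hK : Subgroup.zpowers ⁅x, y⁆ = phi P := PGroup.eq_of_le_of_card_le
      (Subgroup.zpowers_le.mpr (hcomm_mem ⟨x, hx⟩ ⟨y, hy⟩)) (by
        rw [hk, Nat.card_zpowers]
        have := orderOf_eq_one_iff.not.mpr hc
        have := orderOf_pos ⁅x, y⁆
        omega)
    rw [← hK]
    exact Subgroup.zpowers_le.mpr (h1 ⟨x, hx⟩ ⟨y, hy⟩)
  · right
    have hFeq : phi P = Z := by
      refine le_antisymm hFZ' fun a ha => ?_
      by_contra haF
      obtain ⟨c, hcZ, hcE, hc2⟩ := exists_not_mem_sq_mem hZ2 (E := phi P) (fun h => haF (h ha))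
      exact hZ8.false_of_pair hFZ' hfour.card_eq hfour.comm hfour.pow_four hcZ hcE
        (fun b hb => hZc c hcZ b (hFZ' hb)) hc2 (by
          rw [show 4 = 2 * 2 from rfl, pow_mul, pow_two, pow_two]; exact hfour.sq _ hc2)
    refine ⟨hspecial hFeq fun K h1 => ?_, by rw [hcard_center, ← hFeq, hfour.card_eq], hfour⟩
    -- the commutators fill `Φ(P)`
    set W := phi P ⊓ K ⊓ (_root_.commutator P).map P.subtype with hW
    have hcW : ∀ x y : P, ⁅(x : G), (y : G)⁆ ∈ W := fun x y =>
      ⟨⟨hcomm_mem x y, h1 x y⟩,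
        ⟨⁅x, y⁆, Subgroup.commutator_mem_commutator (Subgroup.mem_top x) (Subgroup.mem_top y), rfl⟩⟩
    by_contra hnle
    have hWlt : W ≠ phi P := fun h => hnle (h ▸ inf_le_left.trans inf_le_right)
    -- `W = P'` has order two and is invariant
    set D := (_root_.commutator P).map P.subtype with hD
    have hDW : D ≤ W := by
      rw [hD, Subgroup.map_le_iff_le_comap, commutator_def, Subgroup.commutator_le]
      exact fun a _ b _ => hcW a b
    have hDF : D ≤ phi P := hDW.trans (inf_le_left.trans inf_le_left)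
    have hDP : H ≤ Subgroup.normalizer (D : Set G) := by
      rw [hD, Subgroup.map_subtype_commutator]
      exact le_normalizer_commutator hH hH
    have hDne : D ≠ phi P := fun h => hWlt (le_antisymm (inf_le_left.trans inf_le_left) (h ▸ hDW))
    have hDrel : D.relIndex (phi P) = 2 := by
      have hmul := Subgroup.relIndex_mul_relIndex ⊥ D (phi P) bot_le hDF
      rw [Subgroup.relIndex_bot_left, Subgroup.relIndex_bot_left, hfour.card_eq] at hmul
      have h2 : D.relIndex (phi P) ≠ 1 := fun h => hDne (le_antisymm hDF (Subgroup.relIndex_eq_one.mp h))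
      have h3 : Nat.card D ≠ 1 := fun h => hna fun a ha b hb => by
        have hab : ⁅a, b⁆ ∈ D := ⟨⁅(⟨a, ha⟩ : P), ⟨b, hb⟩⁆,
          Subgroup.commutator_mem_commutator (Subgroup.mem_top _) (Subgroup.mem_top _), rfl⟩
        rw [Subgroup.card_eq_one.mp h, Subgroup.mem_bot] at hab
        exact commutatorElement_eq_one_iff_mul_comm.mp hab
      have := Nat.le_of_dvd (by norm_num) (Dvd.intro_left _ hmul)
      interval_cases hr : D.relIndex (phi P) <;> omega
    have hfixD : ∀ h ∈ H, ∀ f ∈ phi P, h * f * h⁻¹ * f⁻¹ ∈ D := by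
      intro h hh f hf
      have := comm_mem_of_relIndex_two hFH hDP hDrel f⁻¹ ((phi P).inv_mem hf) h hh
      have hconj := Subgroup.le_normalizer_iff.mp hFH h hh f hf
      rw [inv_inv, hFc _ ((phi P).inv_mem hf) _ hconj] at this
      exact this
    have hcD : ∀ x y : P, ⁅(x : G), (y : G)⁆ ∈ D := fun x y =>
      ⟨⁅x, y⁆, Subgroup.commutator_mem_commutator (Subgroup.mem_top x) (Subgroup.mem_top y), rfl⟩
    exact hDne (le_antisymm hDF (hgen D hcD (hsq_in D hDF hcD hfixD)))

/-- The involution-or-trivial subgroup on which the type is centred. -/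
theorem invariant_fixed {F : Subgroup G} (hT : IsFour F ∨ ∃ z, IsQuat F z)
    (hH : H ≤ Subgroup.normalizer (F : Set G)) (hFH : ⁅F, H⁆ = F) {D : Subgroup G} (hD : D ≤ F)
    (hne : D ≠ F) (hDH : H ≤ Subgroup.normalizer (D : Set G)) : ⁅D, H⁆ = ⊥ := by
  rw [eq_bot_iff, Subgroup.commutator_le]
  intro d hd h hh
  rw [Subgroup.mem_bot, commutatorElement_eq_one_iff_mul_comm]
  rcases hT with hT | ⟨z, hT⟩
  · rw [hT.invariant hH hFH hD hne hDH, Subgroup.mem_bot] at hd
    rw [hd, one_mul, mul_one]
  · rcases hT.invariant hH hFH hD hne hDH hd with rfl | rfl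
    · rw [one_mul, mul_one]
    · exact (hT.z_comm (hH hh)).symm

/-- What commutes with the operators centralises `F = [F, H]` of one of the two types. -/
theorem centralizes_of_commute {R F : Subgroup G} (hR : IsPGroup 2 R) (hFR : F ≤ R)
    (hRF : R ≤ Subgroup.normalizer (F : Set G)) (hRH : H ≤ Subgroup.normalizer (R : Set G))
    (hT : IsFour F ∨ ∃ z, IsQuat F z) (hH : H ≤ Subgroup.normalizer (F : Set G))
    (hFH : ⁅F, H⁆ = F) {C : Subgroup G} (hCR : C ≤ R)
    (hC : C ≤ Subgroup.centralizer (H : Set G)) : ⁅F, C⁆ = ⊥ := by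
  haveI : Fact (Nat.Prime 2) := ⟨Nat.prime_two⟩
  set D := ⁅F, R⁆ with hD
  have hDF : D ≤ F := Subgroup.le_normalizer_iff_commutator_le_left.mp hRF
  have hDne : D ≠ F := by
    intro h
    have hne : F ≠ ⊥ := by
      intro h0
      rcases hT with hT | ⟨z, hT⟩ <;> · have h1 := hT.card_eq; rw [h0, Subgroup.card_bot] at h1; omega
    haveI : (F.subgroupOf R).Normal := (Subgroup.normal_subgroupOf_iff_le_normalizer hFR).mpr hRF
    have hlt := PGroup.commutator_lt_of_ne_bot hR (N := F.subgroupOf R) fun h0 =>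
      hne (disjoint_self.mp ((Subgroup.subgroupOf_eq_bot.mp h0).mono_right hFR))
    refine hlt.ne (Subgroup.map_injective R.subtype_injective ?_)
    rw [Subgroup.map_commutator, ← MonoidHom.range_eq_map, Subgroup.range_subtype,
      Subgroup.map_subgroupOf_eq_of_le hFR]
    exact h
  have h0 : ⁅D, H⁆ = ⊥ := invariant_fixed hT hH hFH hDF hDne (le_normalizer_commutator hH hRH)
  have h1 : ⁅⁅F, C⁆, H⁆ = ⊥ := le_bot_iff.mp
    ((Subgroup.commutator_mono (Subgroup.commutator_mono le_rfl hCR) le_rfl).trans h0.le)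
  have h2 : ⁅⁅C, H⁆, F⁆ = ⊥ := by
    rw [Subgroup.commutator_eq_bot_iff_le_centralizer.mpr hC, Subgroup.commutator_bot_left]
  have h3 : ⁅⁅H, F⁆, C⁆ = ⊥ := Subgroup.commutator_commutator_eq_bot_of_rotate h1 h2
  rwa [Subgroup.commutator_comm H, hFH] at h3

/-- An element centralising one of the types, outside it, gives a subgroup of order 8. -/
theorem exists_eight_of_commute {F : Subgroup G} (hT : IsFour F ∨ ∃ z, IsQuat F z) {c : G}
    (hcF : c ∉ F) (hc2 : c * c ∈ F) (hc : ∀ a ∈ F, c * a = a * c) :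
    ∃ A : Subgroup G, IsMulCommutative ↥A ∧ ¬ IsCyclic ↥A ∧ Nat.card ↥A = 8 ∧
      ∀ R : Subgroup G, F ≤ R → c ∈ R → A ≤ R := by
  rcases hT with hT | ⟨z, hT⟩
  · obtain ⟨A, h1, h2, h3, -, -, h4⟩ := exists_eight F hT.card_eq hT.comm hT.pow_four hcF hc hc2 (by
      rw [show 4 = 2 * 2 from rfl, pow_mul, pow_two, pow_two]; exact hT.sq _ hc2)
    exact ⟨A, h1, h2, h3, h4⟩
  · obtain ⟨i, hi, u, hu, hiu⟩ := hT.noncomm
    have hi1 : i ≠ 1 := fun h => hiu (by rw [h, one_mul, mul_one])
    have hiz : i ≠ z := fun h => hiu (by rw [h]; exact (hT.z_comm (Subgroup.le_normalizer hu)).symm)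
    have hzi : z ∈ Subgroup.zpowers i := by
      rw [← hT.sq i hi hi1 hiz]
      exact Subgroup.mul_mem _ (Subgroup.mem_zpowers i) (Subgroup.mem_zpowers i)
    have hle : Subgroup.zpowers i ≤ F := Subgroup.zpowers_le.mpr hi
    -- the square is central in `F`
    have hcc : c * c = 1 ∨ c * c = z := by
      by_cases h1 : c * c = 1
      · exact Or.inl h1
      by_cases h2 : c * c = z
      · exact Or.inr h2
      exfalso
      obtain ⟨w, hw, hwc⟩ : ∃ w ∈ F, w ∉ Subgroup.zpowers (c * c) := by
        by_contra h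
        push Not at h
        have := Nat.le_of_dvd Nat.card_pos (Subgroup.card_dvd_of_le (fun x hx => h x hx :
          F ≤ Subgroup.zpowers (c * c)))
        rw [hT.card_eq, hT.card_zpowers hc2 h1 h2] at this
        omega
      have h3 := hT.anticomm hc2 h1 h2 hw hwc
      rw [show w * (c * c) = c * c * w by rw [← mul_assoc, ← hc w hw, mul_assoc, ← hc w hw, mul_assoc],
        mul_inv_cancel_right, left_eq_mul] at h3
      exact hT.z_ne h3
    have hc4 : c ^ 4 = 1 := by
      rw [show 4 = 2 * 2 from rfl, pow_mul, pow_two, pow_two]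
      rcases hcc with h | h <;> rw [h]
      · exact one_mul 1
      · exact hT.z_sq
    obtain ⟨A, h1, h2, h3, -, -, h4⟩ := exists_eight (Subgroup.zpowers i)
      (hT.card_zpowers hi hi1 hiz) (fun a ha b hb => by
        obtain ⟨m, rfl⟩ := Subgroup.mem_zpowers_iff.mp ha
        obtain ⟨n, rfl⟩ := Subgroup.mem_zpowers_iff.mp hb
        exact ((Commute.refl i).zpow_zpow m n).eq) (fun a ha => hT.pow_four a (hle ha))
      (fun h => hcF (hle h)) (fun a ha => hc a (hle ha))
      (hcc.elim (fun h => h ▸ Subgroup.one_mem _) fun h => h ▸ hzi) hc4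
    exact ⟨A, h1, h2, h3, fun R hR => h4 R (hle.trans hR)⟩

/-- A group without noncyclic abelian subgroups of order 8 moved by odd operators. -/
theorem four_or_quat (n : ℕ) : ∀ P : Subgroup G, Nat.card P = n → IsPGroup 2 P →
    Odd (Nat.card H) → H ≤ Subgroup.normalizer (P : Set G) → NoEight P → ⁅P, H⁆ ≠ ⊥ →
    ⁅P, H⁆ = P ∧ (IsFour P ∨ ∃ z, IsQuat P z) := by
  induction n using Nat.strong_induction_on with
  | _ n ih =>
  intro P hn hP hodd hH h8 hne
  haveI : Fact (Nat.Prime 2) := ⟨Nat.prime_two⟩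
  have hsub : SubNoEight P H := fun Y hY _ _ => h8.mono hY
  have hIH : ∀ F : Subgroup G, F ≤ P → F ≠ P → H ≤ Subgroup.normalizer (F : Set G) → ⁅F, H⁆ ≠ ⊥ →
      ⁅F, H⁆ = F ∧ (IsFour F ∨ ∃ z, IsQuat F z) := by
    intro F hF hFne hFH hF0
    refine ih _ ?_ F rfl (hP.to_le hF) hodd hFH (h8.mono hF) hF0
    rw [← hn]
    exact lt_of_not_ge fun h => hFne (PGroup.eq_of_le_of_card_le hF h)
  have hcop := isPGroup_coprime hP hodd
  have hsolv : Group.IsSolvable H ∨ Group.IsSolvable P :=
    Or.inr (Solvable.isSolvable_of_isPGroup hP)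
  set P₁ := ⁅P, H⁆ with hP₁
  have hP₁le : P₁ ≤ P := Coprime.commutator_le_left' hH
  have hP₁H : H ≤ Subgroup.normalizer (P₁ : Set G) := Subgroup.normalizer_commutator_ge_right P H
  have hP₁eq : ⁅P₁, H⁆ = P₁ := Coprime.commutator_commutator_eq hH hcop hsolv
  by_cases hP₁P : P₁ = P
  · refine ⟨hP₁P, ?_⟩
    have hPH : ⁅P, H⁆ = P := hP₁P
    by_cases hab : ∀ a ∈ P, ∀ b ∈ P, a * b = b * a
    · rcases cyclic_or_four hP hab h8 with hc | hf
      · exfalso
        haveI := hc
        refine hne (Subgroup.commutator_eq_bot_iff_le_centralizer.mpr fun a ha h hh => ?_)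
        exact commute_of_cyclic hP hodd hH h hh a ha
      · exact Or.inl hf
    · have hP2 := structure_of_commutator_eq hP hodd hH hPH hsub hIH hab
      right
      have hsp : Cfsg.IsSpecial 2 P := hP2.elim And.left And.left
      have hzc : ∀ a : P, a * a ∈ Subgroup.center P := fun a => by
        rw [← hsp.2.1, ← pow_two]; exact PGroup.pow_mem_frattini hP a
      have hcc : ∀ a : P, a ∈ Subgroup.center P → ∀ b ∈ P, (a : G) * b = b * a := fun a ha b hb =>
        (congrArg Subtype.val (Subgroup.mem_center_iff.mp ha ⟨b, hb⟩)).symm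
      have hphi : phi P = (Subgroup.center P).map P.subtype := by rw [phi, hsp.2.1]
      rcases hP2 with hES | ⟨-, h4, hphi4⟩
      · -- extraspecial: order 8
        obtain ⟨⟨z, hz⟩, hz1⟩ := by
          haveI : Nontrivial (Subgroup.center P) :=
            Finite.one_lt_card_iff_nontrivial.mp (by rw [hES.2]; norm_num)
          exact exists_ne (1 : Subgroup.center P)
        have hcases : ∀ a : P, a ∈ Subgroup.center P → a = 1 ∨ a = z := fun a ha => by
          by_contra h
          push Not at h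
          have h3 : 3 ≤ Nat.card (Subgroup.center P) := by
            rw [show Nat.card (Subgroup.center P) = (Subgroup.center P : Set P).ncard from
              Nat.card_coe_set_eq _]
            refine le_trans (le_of_eq ?_) (Set.ncard_le_ncard (s := {1, a, z}) ?_ (Set.toFinite _))
            · rw [Set.ncard_eq_three.mpr ⟨1, a, z, fun he => h.1 he.symm,
                fun he => hz1 (Subtype.ext he.symm), h.2, rfl⟩]
            · rintro x (rfl | rfl | rfl)
              exacts [Subgroup.one_mem _, ha, hz]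
          rw [hES.2] at h3
          omega
        have hzne : (z : G) ≠ 1 := fun h => hz1 (Subtype.ext (Subtype.ext h))
        have hz2 : (z : G) * z = 1 := by
          rcases hcases (z * z) (Subgroup.mul_mem _ hz hz) with h | h
          · exact congrArg Subtype.val h
          · exact absurd (congrArg Subtype.val (mul_eq_right.mp h)) hzne
        set F : Subgroup G := phi P with hF
        have hFmem : ∀ {a : G}, a ∈ F ↔ a = 1 ∨ a = (z : G) := by
          intro a
          rw [hphi]
          refine ⟨?_, ?_⟩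
          · rintro ⟨b, hb, rfl⟩
            exact (hcases b hb).imp (congrArg Subtype.val) (congrArg Subtype.val)
          · rintro (rfl | rfl)
            exacts [Subgroup.one_mem _, ⟨z, hz, rfl⟩]
        have hF2 : Nat.card F = 2 := by
          rw [hphi, Subgroup.card_subtype, hES.2]
        have hFc : ∀ a ∈ F, ∀ p ∈ P, a * p = p * a := fun a ha p hp => by
          rcases hFmem.mp ha with rfl | rfl
          · rw [one_mul, mul_one]
          · exact hcc z hz p hp
        have hFsq : ∀ a ∈ F, a * a = 1 := fun a ha => by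
          rcases hFmem.mp ha with rfl | rfl
          · exact one_mul 1
          · exact hz2
        have hsqF : ∀ a ∈ P, a * a ∈ F := fun a ha => by
          rw [hphi]; exact ⟨⟨a, ha⟩ * ⟨a, ha⟩, hzc _, rfl⟩
        have hp4 : ∀ a ∈ P, a ^ 4 = 1 := fun a ha => by
          rw [show 4 = 2 * 2 from rfl, pow_mul, pow_two, pow_two]; exact hFsq _ (hsqF a ha)
        have hFP' : F ≤ P := phi_le P
        have hout : ∀ x ∈ P, x ∉ F → ∃ E : Subgroup G, E ≤ P ∧ Nat.card E = 4 ∧ x ∈ E ∧ F ≤ E ∧
            (∀ a ∈ E, ∀ b ∈ E, a * b = b * a) ∧ (∀ a ∈ E, a ∈ F ∨ ∃ f ∈ F, a = x * f) ∧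
            ∀ c ∈ P, x * c = c * x → c ∈ E := by
          intro x hx hxF
          obtain ⟨E, h1, h2, h3, h4, h5, h6⟩ := exists_double F
            (fun a ha b hb => hFc a ha b (hFP' hb)) hxF (fun a ha => (hFc a ha x hx).symm) (hsqF x hx)
          refine ⟨E, h6 P hFP' hx, by rw [h1, hF2], h3, h2, h4, h5, fun c hc hxc => ?_⟩
          by_contra hcE
          refine h8.false_of_pair (h6 P hFP' hx) (by rw [h1, hF2]) h4
            (fun a ha => hp4 a (h6 P hFP' hx ha)) hc hcE (fun a ha => ?_) (h2 (hsqF c hc)) (hp4 c hc)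
          rcases h5 a ha with ha | ⟨f, hf, rfl⟩
          · exact (hFc a ha c hc).symm
          · rw [← mul_assoc, ← hxc, mul_assoc, ← hFc f hf c hc, mul_assoc]
        -- centralisers have index at most two
        have hcomm : ∀ a ∈ P, ∀ b ∈ P, a * b = b * a ∨ a * b = b * a * (z : G) := fun a ha b hb => by
          have h1 : ⁅a⁻¹, b⁻¹⁆ ∈ F := by
            rw [hF]
            exact mem_phi (x := ⁅(⟨a, ha⟩ : P)⁻¹, (⟨b, hb⟩ : P)⁻¹⁆).mpr
              (PGroup.commutatorElement_mem_frattini hP _ _)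
          rcases hFmem.mp h1 with h | h
          · left
            calc a * b = b * a * ⁅a⁻¹, b⁻¹⁆ := by rw [commutatorElement_def]; group
              _ = b * a := by rw [h, mul_one]
          · right
            rw [← h, commutatorElement_def]; group
        have hframe : ∀ x ∈ P, ∀ E : Subgroup G, (∀ c ∈ P, x * c = c * x → c ∈ E) →
            ∀ y ∈ P, y ∉ E → ∀ a ∈ P, a ∈ E ∨ y⁻¹ * a ∈ E := by
          intro x hxP E hEcent y hyP hyE
          have hyx : x * y = y * x * (z : G) :=
            (hcomm x hxP y hyP).resolve_left fun h => hyE (hEcent y hyP h)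
          have hcover : ∀ a ∈ P, a ∈ E ∨ y⁻¹ * a ∈ E := fun a ha => by
            rcases hcomm x hxP a ha with h | h
            · exact Or.inl (hEcent a ha h)
            · right
              refine hEcent _ (P.mul_mem (P.inv_mem hyP) ha) ?_
              have hzP : (z : G) ∈ P := z.2
              have h1 : x * y⁻¹ = y⁻¹ * x * (z : G) := by
                refine mul_left_cancel (a := y) ?_
                calc y * (x * y⁻¹) = y * x * y⁻¹ := (mul_assoc _ _ _).symm
                  _ = x * y * (z : G) * y⁻¹ := by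
                    rw [hyx, mul_assoc (y * x) (z : G) (z : G), hz2, mul_one]
                  _ = x * (y * (z : G)) * y⁻¹ := by rw [mul_assoc x]
                  _ = x * ((z : G) * y) * y⁻¹ := by rw [hcc z hz y hyP]
                  _ = y * (y⁻¹ * x * (z : G)) := by group
              calc x * (y⁻¹ * a) = (y⁻¹ * x * (z : G)) * a := by rw [← mul_assoc, h1]
                _ = y⁻¹ * x * (a * (z : G)) := by rw [mul_assoc _ (z : G) a, hcc z hz a ha]
                _ = y⁻¹ * (x * a) * (z : G) := by group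
                _ = y⁻¹ * (a * x) * ((z : G) * z) := by rw [h]; group
                _ = y⁻¹ * a * x := by rw [hz2, mul_one, mul_assoc]
          exact hcover
        obtain ⟨x, hxP, hxF⟩ := SetLike.not_le_iff_exists.mp
          (fun hle : P ≤ F => hab fun a ha b hb => hFc a (hle ha) b (hFP' (hle hb)))
        obtain ⟨E, hEP, hE4, hxE, hFE, hEc, hEmem, hEcent⟩ := hout x hxP hxF
        obtain ⟨y, hyP, hyE⟩ := SetLike.not_le_iff_exists.mp
          (fun hle : P ≤ E => hab fun a ha b hb => hEc a (hle ha) b (hle hb))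
        have hcard : Nat.card P = 8 := by
          have h1 : (E.subgroupOf P).index = 2 := by
            rw [Subgroup.index_eq_two_iff']
            refine ⟨⟨y⁻¹, P.inv_mem hyP⟩, fun b => ?_⟩
            simp only [Subgroup.mem_subgroupOf, Subgroup.coe_mul]
            rcases hframe x hxP E hEcent y hyP hyE b b.2 with hb | hb
            · exact Or.inr ⟨hb, fun h => hyE (by
                simpa using E.inv_mem (E.mul_mem h (E.inv_mem hb)))⟩
            · exact Or.inl ⟨hb, fun h => hyE (by
                simpa using E.inv_mem (E.mul_mem hb (E.inv_mem h)))⟩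
          rw [← (E.subgroupOf P).card_mul_index, h1,
            Nat.card_congr (Subgroup.subgroupOfEquivOfLe hEP).toEquiv, hE4]
        refine ⟨z, quat_of_no_involution hcard hab z.2 hzne hz2 ?_⟩
        intro w hw hw2
        by_contra hcon
        push Not at hcon
        have hwF : w ∉ F := fun h => (hFmem.mp h).elim hcon.1 hcon.2
        obtain ⟨E', hE'P, -, hwE', hFE', hE'c, hE'mem, hE'cent⟩ := hout w hw hwF
        have hfixed : ∀ v ∈ P, (∀ g ∈ H, g * v * g⁻¹ * v⁻¹ ∈ F) → v ∈ F := by
          intro v hv hall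
          refine (mem_phi (x := ⟨v, hv⟩)).mpr (mem_phi_of_fixed hP hodd hH hPH fun g hg => ?_)
          rw [← mem_phi]
          have h1 := F.inv_mem (hall g hg)
          have h2 := Subgroup.le_normalizer_iff.mp (self_le_normalizer_phi hP) v⁻¹ (P.inv_mem hv) _ h1
          simpa [conjHom, mul_assoc] using h2
        obtain ⟨h, hh, hmove⟩ : ∃ h ∈ H, h * w * h⁻¹ * w⁻¹ ∉ F := by
          by_contra hall
          push Not at hall
          exact hwF (hfixed w hw hall)
        set v := h * w * h⁻¹ with hv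
        have hvP : v ∈ P := Subgroup.le_normalizer_iff.mp hH h hh w hw
        have hv2 : v * v = 1 := by
          rw [hv, show h * w * h⁻¹ * (h * w * h⁻¹) = h * (w * w) * h⁻¹ by group, hw2, mul_one,
            mul_inv_cancel]
        have hFH' := le_normalizer_phi (H := H) hP hH
        have hvE : v ∉ E' := by
          intro hvE
          rcases hE'mem v hvE with h1 | ⟨f, hf, h1⟩
          · refine hwF ?_
            have := Subgroup.le_normalizer_iff.mp hFH' h⁻¹ (H.inv_mem hh) v h1
            simpa [hv, mul_assoc] using this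
          · refine hmove ?_
            rw [h1, mul_assoc w f, hFc f hf w⁻¹ (P.inv_mem hw), ← mul_assoc, mul_inv_cancel, one_mul]
            exact hf
        -- the elements of order four fill one coset
        have hsq_one : ∀ e ∈ E', e * e = 1 := fun e he => by
          rcases hE'mem e he with h1 | ⟨f, hf, rfl⟩
          · exact hFsq e h1
          · calc w * f * (w * f) = w * (f * w) * f := by group
              _ = w * (w * f) * f := by rw [hFc f hf w hw]
              _ = w * w * (f * f) := by group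
              _ = 1 := by rw [hw2, hFsq f hf, one_mul]
        have hfour : ∀ a ∈ P, a * a ≠ 1 → ∃ f ∈ F, a = v * w * f := by
          intro a ha ha2
          rcases hframe w hw E' hE'cent v hvP hvE a ha with h1 | h1
          · exact absurd (hsq_one a h1) ha2
          · rcases hE'mem _ h1 with h2 | ⟨f, hf, h2⟩
            · exfalso
              refine ha2 ?_
              calc a * a = v * (v⁻¹ * a) * (v * (v⁻¹ * a)) := by group
                _ = v * ((v⁻¹ * a) * v) * (v⁻¹ * a) := by group
                _ = v * (v * (v⁻¹ * a)) * (v⁻¹ * a) := by rw [hFc _ h2 v hvP]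
                _ = v * v * ((v⁻¹ * a) * (v⁻¹ * a)) := by group
                _ = 1 := by rw [hv2, hFsq _ h2, one_mul]
            · exact ⟨f, hf, by rw [mul_assoc, ← h2, mul_inv_cancel_left]⟩
        refine hvE ?_
        have hvw : v * w ∈ F := hfixed _ (P.mul_mem hvP hw) fun g hg => by
          have hgP := Subgroup.le_normalizer_iff.mp hH g hg _ (P.mul_mem hvP hw)
          have hne1 : g * (v * w) * g⁻¹ * (g * (v * w) * g⁻¹) ≠ 1 := by
            intro h1
            have h2 : v * w * (v * w) = 1 := by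
              calc v * w * (v * w) = g⁻¹ * (g * (v * w) * g⁻¹ * (g * (v * w) * g⁻¹)) * g := by group
                _ = 1 := by rw [h1, mul_one, inv_mul_cancel]
            refine hvE (hE'cent v hvP ?_)
            calc w * v = v * v * (w * v) * (w * w) := by rw [hv2, hw2, one_mul, mul_one]
              _ = v * (v * w * (v * w)) * w := by group
              _ = v * w := by rw [h2, mul_one]
          obtain ⟨f, hf, hgf⟩ := hfour _ hgP hne1
          rw [hgf, mul_assoc (v * w) f, hFc f hf _ (P.inv_mem (P.mul_mem hvP hw)), ← mul_assoc,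
            mul_inv_cancel, one_mul]
          exact hf
        rw [show v = v * w * w by rw [mul_assoc, hw2, mul_one]]
        exact E'.mul_mem (hFE' hvw) hwE'
      · -- the centre is a four group: impossible
        exfalso
        set Zs := (Subgroup.center P).map P.subtype with hZs
        have hZ4 : Nat.card Zs = 4 := by rw [hZs, Subgroup.card_subtype, h4]
        have hZmem : ∀ a ∈ Zs, ∀ p ∈ P, a * p = p * a := by
          rintro _ ⟨a, ha, rfl⟩ p hp
          exact hcc a ha p hp
        have hZle : Zs ≤ P := Subgroup.map_subtype_le _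
        have hZ4' : ∀ a ∈ Zs, a ^ 4 = 1 := fun a ha => by
          rw [← hZ4]
          exact orderOf_dvd_iff_pow_eq_one.mp (Subgroup.orderOf_dvd_natCard Zs ha)
        obtain ⟨c, hcP, hcZ⟩ := SetLike.not_le_iff_exists.mp
          (fun hle : P ≤ Zs => hab fun a ha b hb => hZmem a (hle ha) b hb)
        have hc4 : c ^ 4 = 1 := by
          -- squares are central and commutators square to one
          have hexp : ∀ a ∈ Zs, a * a = 1 := by
            intro a ha
            rw [← hphi] at ha
            exact hphi4.sq a ha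
          rw [show 4 = 2 * 2 from rfl, pow_mul, pow_two, pow_two]
          exact hexp _ ⟨⟨c, hcP⟩ * ⟨c, hcP⟩, hzc _, rfl⟩
        exact h8.false_of_pair hZle hZ4 (fun a ha b hb => hZmem a ha b (hZle hb)) hZ4' hcP hcZ
          (fun a ha => (hZmem a ha c hcP).symm) ⟨⟨c, hcP⟩ * ⟨c, hcP⟩, hzc _, rfl⟩ hc4
  · exfalso
    set C := P ⊓ Subgroup.centralizer (H : Set G) with hC
    have hP₁ne : ⁅P₁, H⁆ ≠ ⊥ := by rw [hP₁eq]; exact hne
    obtain ⟨-, hT⟩ := hIH P₁ hP₁le hP₁P hP₁H hP₁ne
    have hPP₁ : P ≤ Subgroup.normalizer (P₁ : Set G) := Subgroup.normalizer_commutator_ge_left P H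
    have hcent := centralizes_of_commute hP hP₁le hPP₁ hH hT hP₁H hP₁eq (C := C) inf_le_left inf_le_right
    have hnle : ¬ C ≤ P₁ := fun h => hP₁P (by
      have h1 := Coprime.commutator_sup_centralizer hH hcop hsolv
      rwa [sup_eq_left.mpr h] at h1)
    obtain ⟨c, hcC, hc1, hc2⟩ := exists_not_mem_sq_mem (hP.to_le inf_le_left) hnle
    obtain ⟨A, a1, a2, a3, a4⟩ := exists_eight_of_commute hT hc1 hc2 fun a ha =>
      (commutatorElement_eq_one_iff_mul_comm.mp (Subgroup.mem_bot.mp
        (hcent ▸ Subgroup.commutator_mem_commutator ha hcC))).symm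
    exact h8 ⟨A, a4 P hP₁le hcC.1, a1, a2, a3⟩

end Cfsg.Agent.MinEight
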